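/-
Hall-Higman technique, part 1: character blocks of a finite abelian group of units and the way a
unit normalizing it permutes them.
-/
import Mathlib

set_option autoImplicit false
set_option linter.style.haveILetI false
set_option linter.unusedSectionVars false

open scoped IsMulCommutative

namespace CfsgLib.HallHigmanExc

universe u v

variable {K : Type u} [Field K] {R : Type v} [Ring R] [Algebra K R] (A : Subgroup Rˣ) [Finite A]

/-- The idempotent of a character of a finite abelian group of units. -/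
noncomputable def blk (l : A →* Kˣ) : R :=
  letI := Fintype.ofFinite A
  (Nat.card A : K)⁻¹ • ∑ a : A, ((l a)⁻¹ : Kˣ).val • ((a : Rˣ) : R)

theorem mul_blk (l : A →* Kˣ) (b : A) :
    ((b : Rˣ) : R) * blk A l = (l b : K) • blk A l := by
  letI := Fintype.ofFinite A
  simp only [blk]
  rw [mul_smul_comm, Finset.mul_sum, smul_comm]
  congr 1
  rw [Finset.smul_sum]
  refine Fintype.sum_equiv (Equiv.mulLeft b) _ _ fun a => ?_
  rw [Equiv.coe_mulLeft, mul_smul_comm, smul_smul, Subgroup.coe_mul, Units.val_mul, map_mul,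
    mul_inv_rev, Units.val_mul]
  congr 1
  rw [mul_left_comm, ← Units.val_mul, mul_inv_cancel, Units.val_one, mul_one]

theorem commute_blk {x : R} (hx : ∀ a : A, Commute x ((a : Rˣ) : R)) (l : A →* Kˣ) :
    Commute x (blk A l) := by
  letI := Fintype.ofFinite A
  exact Commute.smul_right (Commute.sum_right _ _ _ fun a _ => (hx a).smul_right _) _

variable [IsMulCommutative A]

theorem commute_mem_blk (b : A) (l : A →* Kˣ) : Commute ((b : Rˣ) : R) (blk A l) :=
  commute_blk A (fun a => by
    show ((b : Rˣ) : R) * _ = _ * ((b : Rˣ) : R)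
    rw [← Units.val_mul, ← Units.val_mul, ← Subgroup.coe_mul, ← Subgroup.coe_mul, mul_comm b a]) l

omit [IsMulCommutative A] in
theorem blk_mul_blk (hA : (Nat.card A : K) ≠ 0) (l m : A →* Kˣ) [Decidable (l = m)] :
    blk A l * blk A m = if l = m then blk A m else 0 := by
  classical
  letI := Fintype.ofFinite A
  conv_lhs => arg 1; unfold blk
  rw [smul_mul_assoc, Finset.sum_mul]
  simp only [smul_mul_assoc, mul_blk, smul_smul, ← Finset.sum_smul]
  have h1 : ∀ a : A, ((l a)⁻¹ : Kˣ).val * (m a : K) = ((Units.coeHom K).comp (m / l)) a := fun a => by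
    simp [div_eq_mul_inv, mul_comm]
  simp only [h1, sum_hom_units]
  have h2 : (Units.coeHom K).comp (m / l) = 1 ↔ l = m := by
    constructor
    · intro h
      refine (div_eq_one.1 (MonoidHom.ext fun a => Units.ext ?_)).symm
      exact DFunLike.congr_fun h a
    · rintro rfl
      exact MonoidHom.ext fun a => by simp
  by_cases h : l = m
  · rw [if_pos h, if_pos (h2.2 h), ← Nat.card_eq_fintype_card, inv_mul_cancel₀ hA, one_smul]
  · rw [if_neg h, if_neg (fun hc => h (h2.1 hc)), Nat.cast_zero, mul_zero, zero_smul]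

variable [IsAlgClosed K]

theorem hasRoots (hA : (Nat.card A : K) ≠ 0) : HasEnoughRootsOfUnity K (Monoid.exponent A) := by
  haveI : NeZero ((Monoid.exponent A : ℕ) : K) := ⟨fun h => hA (by
    obtain ⟨d, hd⟩ := Group.exponent_dvd_nat_card (G := A)
    rw [hd, Nat.cast_mul, h, zero_mul])⟩
  infer_instance

theorem finite_chars (hA : (Nat.card A : K) ≠ 0) : Finite (A →* Kˣ) := by
  haveI := hasRoots A hA
  exact Nat.finite_of_card_ne_zero (by
    rw [CommGroup.card_monoidHom_of_hasEnoughRootsOfUnity]; exact Nat.card_pos.ne')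

theorem exists_sum_blk (hA : (Nat.card A : K) ≠ 0) :
    ∃ _ : Fintype (A →* Kˣ), ∑ l : A →* Kˣ, blk (K := K) A l = 1 := by
  classical
  haveI := hasRoots A hA
  haveI := finite_chars (K := K) A hA
  letI hf : Fintype (A →* Kˣ) := Fintype.ofFinite _
  letI := Fintype.ofFinite A
  refine ⟨hf, ?_⟩
  simp only [blk]
  rw [← Finset.smul_sum, Finset.sum_comm]
  simp only [← Finset.sum_smul]
  have key : ∀ a : A, ∑ l : A →* Kˣ, (((l a)⁻¹ : Kˣ) : K) = if a = 1 then (Nat.card A : K) else 0 := by
    intro a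
    split_ifs with h
    · subst h
      simp only [map_one, inv_one, Units.val_one, Finset.sum_const, nsmul_one, Finset.card_univ]
      rw [← Nat.card_eq_fintype_card, CommGroup.card_monoidHom_of_hasEnoughRootsOfUnity]
    · obtain ⟨l₀, hl₀⟩ := CommGroup.exists_apply_ne_one_of_hasEnoughRootsOfUnity A K h
      have h1 : ∑ l : A →* Kˣ, (((l a)⁻¹ : Kˣ) : K) =
          ∑ l : A →* Kˣ, (((l₀ a)⁻¹ : Kˣ) : K) * (((l a)⁻¹ : Kˣ) : K) := by
        refine (Fintype.sum_equiv (Equiv.mulLeft l₀) _ _ fun l => ?_).symm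
        simp [mul_comm]
      rw [← Finset.mul_sum] at h1
      by_contra h2
      exact hl₀ (inv_eq_one.1 (Units.ext
        ((mul_eq_right₀ h2).1 h1.symm).symm.symm))
  simp only [key, ite_smul, zero_smul, Finset.sum_ite_eq', Finset.mem_univ, if_true]
  rw [smul_smul, inv_mul_cancel₀ hA]
  simp

theorem exists_blk_ne_zero (hA : (Nat.card A : K) ≠ 0) {x : R} (hx : x ≠ 0) :
    ∃ l : A →* Kˣ, x * blk A l ≠ 0 := by
  obtain ⟨hf, h⟩ := exists_sum_blk (K := K) A hA
  by_contra! hall
  exact hx (by rw [← mul_one x, ← h, Finset.mul_sum, Finset.sum_eq_zero fun l _ => hall l])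

/-! ### The action of a normalizing unit -/

omit [IsAlgClosed K] [Finite A] [IsMulCommutative A] in
/-- The character moved by a normalizing unit. -/
def twist {g : Rˣ} (hg : g ∈ Subgroup.normalizer (A : Set Rˣ)) (l : A →* Kˣ) : A →* Kˣ :=
  l.comp (A.normalizerMonoidHom ⟨g, hg⟩⁻¹).toMonoidHom

omit [IsAlgClosed K] [Finite A] [IsMulCommutative A] in
theorem twist_apply {g : Rˣ} (hg : g ∈ Subgroup.normalizer (A : Set Rˣ)) (l : A →* Kˣ) (x y : A)
    (hy : (y : Rˣ) = g⁻¹ * x * g) : twist A hg l x = l y := by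
  show l _ = l y
  congr 1
  refine Subtype.ext ?_
  rw [hy]
  show (g : Rˣ)⁻¹ * (x : Rˣ) * ((g : Rˣ)⁻¹)⁻¹ = _
  rw [inv_inv]

omit [IsAlgClosed K] [Finite A] [IsMulCommutative A] in
theorem twist_mul {g h : Rˣ} (hg : g ∈ Subgroup.normalizer (A : Set Rˣ))
    (hh : h ∈ Subgroup.normalizer (A : Set Rˣ)) (l : A →* Kˣ) :
    twist A (mul_mem hg hh) l = twist A hg (twist A hh l) := by
  show l.comp (A.normalizerMonoidHom (⟨g, hg⟩ * ⟨h, hh⟩)⁻¹).toMonoidHom = _
  rw [mul_inv_rev, map_mul]
  rfl

omit [IsAlgClosed K] [IsMulCommutative A] in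
theorem unit_mul_blk {g : Rˣ} (hg : g ∈ Subgroup.normalizer (A : Set Rˣ)) (l : A →* Kˣ) :
    (g : R) * blk A l = blk A (twist A hg l) * (g : R) := by
  letI := Fintype.ofFinite A
  simp only [blk]
  rw [mul_smul_comm, smul_mul_assoc, Finset.mul_sum, Finset.sum_mul]
  congr 1
  refine Fintype.sum_equiv (A.normalizerMonoidHom ⟨g, hg⟩).toEquiv _ _ fun a => ?_
  have h1 : ((A.normalizerMonoidHom ⟨g, hg⟩ a : A) : Rˣ) = g * a * g⁻¹ := rfl
  rw [mul_smul_comm, smul_mul_assoc, twist_apply A hg l _ a (by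
    show (a : Rˣ) = g⁻¹ * (A.normalizerMonoidHom ⟨g, hg⟩ a : A) * g
    rw [h1]; simp [mul_assoc])]
  congr 1
  show (g : R) * _ = (((A.normalizerMonoidHom ⟨g, hg⟩ a : A) : Rˣ) : R) * (g : R)
  rw [h1, ← Units.val_mul, ← Units.val_mul, inv_mul_cancel_right]

/-- A polynomial relation of a normalizing unit restricts to each block. -/
theorem exists_block_relation (hA : (Nat.card A : K) ≠ 0) {θ : Rˣ}
    (hθ : θ ∈ Subgroup.normalizer (A : Set Rˣ)) {P : ℕ} (hθP : θ ^ P = 1) {s : ℕ} (hsP : s < P)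
    {c : ℕ → K} (hc : c s ≠ 0)
    (hrel : ∑ i ∈ Finset.range (s + 1), c i • (θ : R) ^ i = 0)
    {l : A →* Kˣ} (hl : blk A l ≠ 0) :
    ∃ a : ℕ, 0 < a ∧ a ∣ P ∧ a ≤ s ∧
      (∀ i, twist A (pow_mem hθ i) l = l ↔ a ∣ i) ∧
      Commute ((θ : R) ^ a) (blk A l) ∧
      ∃ c' : ℕ → K, c' (s / a) ≠ 0 ∧
        (∑ j ∈ Finset.range (s / a + 1), c' j • ((θ : R) ^ a) ^ j) * blk A l = 0 := by
  classical
  haveI := finite_chars (K := K) A hA
  let f : ℕ → (A →* Kˣ) := fun i => twist A (pow_mem hθ i) l
  have hcongr : ∀ {g h : Rˣ} (hg : g ∈ Subgroup.normalizer (A : Set Rˣ))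
      (hh : h ∈ Subgroup.normalizer (A : Set Rˣ)), g = h → ∀ m : A →* Kˣ,
      twist A hg m = twist A hh m := by
    intro g h hg hh he m; subst he; rfl
  have hone : twist A (one_mem _) l = l := by
    refine MonoidHom.ext fun x => ?_
    exact twist_apply A _ l x x (by simp)
  have hf0 : f 0 = l := (hcongr _ (one_mem _) (pow_zero θ) l).trans hone
  have hadd : ∀ i j, f (i + j) = twist A (pow_mem hθ i) (f j) := fun i j =>
    (hcongr _ _ (pow_add θ i j) l).trans (twist_mul A _ _ l)
  have hfP : f P = l := (hcongr _ (one_mem _) hθP l).trans hone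
  have hex : ∃ a, 0 < a ∧ f a = l := ⟨P, by omega, hfP⟩
  let a := Nat.find hex
  have ha0 : 0 < a := (Nat.find_spec hex).1
  have hfa : f a = l := (Nat.find_spec hex).2
  have hmul : ∀ n, f (a * n) = l := by
    intro n
    induction n with
    | zero => exact hf0
    | succ n ih => rw [Nat.mul_succ, hadd, hfa]; exact ih
  have hiff : ∀ i, f i = l ↔ a ∣ i := by
    refine fun i => ⟨fun h => ?_, fun ⟨n, hn⟩ => hn ▸ hmul n⟩
    rw [Nat.dvd_iff_mod_eq_zero]
    by_contra hne
    refine Nat.find_min hex (Nat.mod_lt i ha0) ⟨Nat.pos_of_ne_zero hne, ?_⟩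
    rw [← Nat.mod_add_div i a, hadd, hmul] at h
    exact h
  have hcomm : Commute ((θ : R) ^ a) (blk A l) := by
    show _ * _ = _
    rw [← Units.val_pow_eq_pow_val, unit_mul_blk A (pow_mem hθ a) l]
    rw [show twist A (pow_mem hθ a) l = l from hfa]
  set e := blk A l with he
  -- the components of the relation
  set r := s % a with hr
  have hcomp : ∑ i ∈ Finset.range (s + 1),
      (if a ∣ i + (a - r) then c i else 0) • ((θ : R) ^ i * e) = 0 := by
    have h := congrArg (fun z => blk A (f r) * (z * e)) hrel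
    simp only [zero_mul, mul_zero, Finset.sum_mul, Finset.mul_sum, smul_mul_assoc,
      mul_smul_comm] at h
    rw [← h]
    refine Finset.sum_congr rfl fun i _ => ?_
    rw [← Units.val_pow_eq_pow_val, he, unit_mul_blk A (pow_mem hθ i) l, ← mul_assoc, blk_mul_blk A hA]
    have hdiff : f r = f i ↔ a ∣ i + (a - r) := by
      have hra : r < a := Nat.mod_lt _ ha0
      constructor
      · intro h'
        rw [← hiff, add_comm, hadd, ← h', ← hadd, Nat.sub_add_cancel hra.le, hfa]
      · rintro ⟨n, hn⟩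
        have h1 : f i = f (a + i) := by
          rw [add_comm, hadd, hfa]
        rw [h1, show a + i = r + a * n by omega, hadd, hmul]
    by_cases h' : f r = f i
    · rw [if_pos h', if_pos (hdiff.1 h')]
    · rw [if_neg h', if_neg (mt hdiff.2 h'), zero_mul, zero_smul, smul_zero]
  let c' : ℕ → K := fun j => c (r + a * j)
  have hsdiv : r + a * (s / a) = s := Nat.mod_add_div s a
  have hrel' : (∑ j ∈ Finset.range (s / a + 1), c' j • ((θ : R) ^ a) ^ j) * e = 0 := by
    have hfac : (θ : R) ^ r * ((∑ j ∈ Finset.range (s / a + 1), c' j • ((θ : R) ^ a) ^ j) * e) = 0 := by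
      rw [← hcomp]
      simp only [Finset.sum_mul, Finset.mul_sum, smul_mul_assoc, mul_smul_comm, ← mul_assoc,
        ← pow_mul, ← pow_add, ite_smul, zero_smul]
      rw [← Finset.sum_filter]
      refine Finset.sum_bij (fun j _ => r + a * j) (fun j hj => ?_) (fun j _ k _ h => ?_)
        (fun i hi => ?_) (fun j _ => rfl)
      · rw [Finset.mem_range] at hj
        rw [Finset.mem_filter, Finset.mem_range]
        have hra : r < a := Nat.mod_lt _ ha0
        have : a * j ≤ a * (s / a) := Nat.mul_le_mul_left a (by omega)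
        exact ⟨by omega, j + 1, by rw [Nat.mul_succ]; omega⟩
      · exact Nat.eq_of_mul_eq_mul_left ha0 (Nat.add_left_cancel h)
      · rw [Finset.mem_filter, Finset.mem_range] at hi
        obtain ⟨n, hn⟩ := hi.2
        have hra : r < a := Nat.mod_lt _ ha0
        have hn1 : 1 ≤ n := Nat.pos_of_ne_zero fun h0 => by rw [h0, mul_zero] at hn; omega
        obtain ⟨m, rfl⟩ : ∃ m, n = m + 1 := ⟨n - 1, by omega⟩
        rw [Nat.mul_succ] at hn
        refine ⟨m, Finset.mem_range.2 ?_, by omega⟩
        rw [Nat.lt_succ_iff, Nat.le_div_iff_mul_le ha0, mul_comm]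
        omega
    rw [← Units.val_pow_eq_pow_val, Units.mul_right_eq_zero] at hfac
    exact hfac
  refine ⟨a, ha0, (hiff P).1 hfP, ?_, hiff, hcomm, c', by show c (r + a * (s / a)) ≠ 0; rw [hsdiv]; exact hc, hrel'⟩
  by_contra hlt
  rw [Nat.div_eq_of_lt (by omega)] at hrel'
  simp at hrel'
  rcases hrel' with h0 | h0
  · exact hc (by
      have : r + a * 0 = s := by rw [mul_zero, add_zero, hr, Nat.mod_eq_of_lt (by omega)]
      rw [← this]; exact h0)
  · exact hl h0

/-- The abelian case: a unit of prime power order satisfying a shorter relation has a nontrivial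
power centralizing every abelian group it normalizes. -/
theorem commute_of_relation (hA : (Nat.card A : K) ≠ 0) {θ : Rˣ}
    (hθ : θ ∈ Subgroup.normalizer (A : Set Rˣ)) {p k : ℕ} (hp : p.Prime) (hk : 1 ≤ k)
    (hθP : θ ^ p ^ k = 1) {s : ℕ} (hsP : s < p ^ k) {c : ℕ → K} (hc : c s ≠ 0)
    (hrel : ∑ i ∈ Finset.range (s + 1), c i • (θ : R) ^ i = 0) (x : A) :
    Commute (((θ ^ p ^ (k - 1) : Rˣ)) : R) ((x : Rˣ) : R) := by
  classical
  obtain ⟨hf, hsum⟩ := exists_sum_blk (K := K) A hA
  set z : Rˣ := θ ^ p ^ (k - 1)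
  have hfix : ∀ l : A →* Kˣ, Commute (z : R) (blk A l) := by
    intro l
    by_cases hl : blk A l = 0
    · rw [hl]; exact Commute.zero_right _
    obtain ⟨a, ha0, hadvd, has, hiff, -, -⟩ := exists_block_relation A hA hθ hθP hsP hc hrel hl
    have hdvd : a ∣ p ^ (k - 1) := by
      obtain ⟨i, hik, rfl⟩ := (Nat.dvd_prime_pow hp).1 hadvd
      refine Nat.pow_dvd_pow p ?_
      have : i ≠ k := fun h => by subst h; omega
      omega
    show _ * _ = _
    rw [unit_mul_blk A (pow_mem hθ _) l, (hiff _).2 hdvd]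
  have hx : ((x : Rˣ) : R) = ∑ l : A →* Kˣ, (l x : K) • blk A l := by
    simp only [← mul_blk]
    rw [← Finset.mul_sum, hsum, mul_one]
  rw [hx]
  exact Commute.sum_right _ _ _ fun l _ => (hfix l).smul_right _

/-! ### Corners -/

/-- Restriction of the endomorphisms commuting with `e` to the range of `e`. -/
noncomputable def corner {V : Type*} [AddCommGroup V] [Module K V] (e : Module.End K V) :
    Submonoid.centralizer ({e} : Set (Module.End K V)) →* Module.End K (LinearMap.range e) where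
  toFun f := LinearMap.restrict (f : Module.End K V) (fun v hv => by
    obtain ⟨w, rfl⟩ := hv
    exact ⟨(f : Module.End K V) w, LinearMap.congr_fun (f.2 e rfl) w⟩)
  map_one' := rfl
  map_mul' _ _ := rfl

omit [IsAlgClosed K] in
@[simp] theorem corner_apply {V : Type*} [AddCommGroup V] [Module K V] (e : Module.End K V)
    (f : Submonoid.centralizer ({e} : Set (Module.End K V))) (v : LinearMap.range e) :
    ((corner e f v : LinearMap.range e) : V) = (f : Module.End K V) v := rfl

end CfsgLib.HallHigmanExc
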