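/-
Hall-Higman technique, part 3: a `q`-subgroup generated by commutators with `z`, seen on one block
of a linear representation of the whole group.
-/
import Mathlib
import Cfsg.Agent.Lib.HallHigmanExc.Exceptional
import Cfsg.Agent.Lib.CoprimeAction.Basic
import Cfsg.Agent.Lib.CoprimeAction.Glauberman

set_option autoImplicit false
set_option linter.style.haveILetI false
set_option linter.unusedSectionVars false

open scoped commutatorElement

namespace CfsgLib.HallHigmanExc

open CfsgLib.CoprimeAction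

universe u v w

variable {G : Type w} [Group G]

/-- A group automorphism-invariant minimal subgroup not centralized by `D`. -/
theorem structure_of_minimal [Finite G] {q : ℕ} [Fact q.Prime] {A D Q : Subgroup G}
    (hQ : IsPGroup q Q) (hAQ : A ≤ Subgroup.normalizer (Q : Set G))
    (hAD : A ≤ Subgroup.normalizer (D : Set G)) (hDQ : D ≤ Subgroup.normalizer (Q : Set G))
    (hcop : (Nat.card D).Coprime (Nat.card Q)) (hne : ¬ D ≤ Subgroup.centralizer (Q : Set G))
    (hmin : ∀ R : Subgroup G, R < Q → A ≤ Subgroup.normalizer (R : Set G) →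
      D ≤ Subgroup.centralizer (R : Set G)) :
    Q ≤ ⁅Q, D⁆ ∧ ⁅Q, Q⁆ ≤ Subgroup.centralizer (Q : Set G) ∧
      D ≤ Subgroup.centralizer ((⁅Q, Q⁆ : Subgroup G) : Set G) := by
  haveI := hQ.isNilpotent
  have hnorm : ∀ H K : Subgroup G, A ≤ Subgroup.normalizer (H : Set G) →
      A ≤ Subgroup.normalizer (K : Set G) → A ≤ Subgroup.normalizer ((⁅H, K⁆ : Subgroup G) : Set G) := by
    intro H K hH hK a ha
    rw [← CfsgLib.CoprimeAction.conj_smul_eq_self]
    show Subgroup.map (MulAut.conj a).toMonoidHom _ = _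
    rw [Subgroup.map_commutator]
    congr 1
    · exact CfsgLib.CoprimeAction.conj_smul_eq_self.2 (hH ha)
    · exact CfsgLib.CoprimeAction.conj_smul_eq_self.2 (hK ha)
  have h1 : Q ≤ ⁅Q, D⁆ := by
    by_contra hcon
    have hlt : ⁅Q, D⁆ < Q := lt_of_le_not_ge (commutator_le_left hDQ) hcon
    have h := hmin _ hlt (hnorm _ _ hAQ hAD)
    have h2 : ⁅⁅Q, D⁆, D⁆ = ⊥ :=
      Subgroup.commutator_eq_bot_iff_le_centralizer.2 (Subgroup.le_centralizer_iff.1 h)
    rw [commutator_commutator_eq hDQ hcop (Or.inr inferInstance),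
      Subgroup.commutator_eq_bot_iff_le_centralizer, Subgroup.le_centralizer_iff] at h2
    exact hne h2
  have hQ1 : Q ≠ ⊥ := fun h => hne (by
    subst h
    intro x _
    rw [Subgroup.mem_centralizer_iff]
    intro y hy
    rw [SetLike.mem_coe, Subgroup.mem_bot] at hy
    simp [hy])
  have hlt : ⁅Q, Q⁆ < Q := commutator_lt_of_isSolvable Q hQ1
  have hDQ' := hmin _ hlt (hnorm _ _ hAQ hAQ)
  refine ⟨h1, ?_, hDQ'⟩
  intro g hg
  have hgen : ⁅Q, D⁆ ≤ Subgroup.centralizer ({g} : Set G) := by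
    refine Subgroup.commutator_le.2 fun b hb d hd => ?_
    have hgd : g * d = d * g := Subgroup.mem_centralizer_iff.1 (hDQ' hd) g hg
    have hmem : ⁅g, b⁻¹⁆ ∈ ⁅Q, Q⁆ := Subgroup.commutator_mem_commutator (hlt.le hg) (Q.inv_mem hb)
    have hd' : ⁅g, b⁻¹⁆ * d = d * ⁅g, b⁻¹⁆ := Subgroup.mem_centralizer_iff.1 (hDQ' hd) _ hmem
    have e : ⁅g, d * b⁻¹ * d⁻¹⁆ = ⁅g, b⁻¹⁆ := by
      calc ⁅g, d * b⁻¹ * d⁻¹⁆ = ⁅d * g * d⁻¹, d * b⁻¹ * d⁻¹⁆ := by rw [← hgd, mul_inv_cancel_right]
        _ = d * ⁅g, b⁻¹⁆ * d⁻¹ := (conjugate_commutatorElement _ _ _).symm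
        _ = _ := by rw [← hd', mul_inv_cancel_right]
    rw [Subgroup.mem_centralizer_singleton_iff, commutatorElement_def]
    rw [commutatorElement_def, commutatorElement_def] at e
    have e2 : (b * (d * b⁻¹ * d⁻¹)) * g⁻¹ * (b * (d * b⁻¹ * d⁻¹))⁻¹ = g⁻¹ := by
      calc (b * (d * b⁻¹ * d⁻¹)) * g⁻¹ * (b * (d * b⁻¹ * d⁻¹))⁻¹
          = b * g⁻¹ * (g * (d * b⁻¹ * d⁻¹) * g⁻¹ * (d * b⁻¹ * d⁻¹)⁻¹) * b⁻¹ := by group
        _ = b * g⁻¹ * (g * b⁻¹ * g⁻¹ * b⁻¹⁻¹) * b⁻¹ := by rw [e]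
        _ = g⁻¹ := by group
    have e3 := congrArg (·⁻¹) e2
    simp only [mul_inv_rev, inv_inv] at e3
    calc b * d * b⁻¹ * d⁻¹ * g = b * d * b⁻¹ * d⁻¹ * g * (b * d * b⁻¹ * d⁻¹)⁻¹ *
          (b * d * b⁻¹ * d⁻¹) := by group
      _ = g * (b * d * b⁻¹ * d⁻¹) := by
        congr 1
        calc b * d * b⁻¹ * d⁻¹ * g * (b * d * b⁻¹ * d⁻¹)⁻¹
            = ((b * (d * b⁻¹ * d⁻¹)) * g⁻¹ * (b * (d * b⁻¹ * d⁻¹))⁻¹)⁻¹ := by group
          _ = g := by rw [e2, inv_inv]
  rw [Subgroup.mem_centralizer_iff]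
  intro b hb
  exact Subgroup.mem_centralizer_singleton_iff.1 (hgen (h1 hb))

/-- An element commutating `Q` onto itself fixes nothing in an abelian quotient of `Q`. -/
theorem mem_of_commutator_mem [Finite G] {Q S : Subgroup G} {z : G} (_hSQ : S ≤ Q)
    (hQQ : ⁅Q, Q⁆ ≤ S) (hQn : z ∈ Subgroup.normalizer (Q : Set G))
    (hSn : z ∈ Subgroup.normalizer (S : Set G)) (hgen : Q ≤ ⁅Q, Subgroup.zpowers z⁆) {g : G}
    (hg : g ∈ Q) (hgz : g⁻¹ * (z * g * z⁻¹) ∈ S) : g ∈ S := by
  haveI hn : (S.subgroupOf Q).Normal := ⟨fun x hx y => by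
    show (y : G) * x * (y : G)⁻¹ ∈ S
    rw [show (y : G) * x * (y : G)⁻¹ = ⁅(y : G), (x : G)⁆ * x by simp [commutatorElement_def, mul_assoc]]
    exact S.mul_mem (hQQ (Subgroup.commutator_mem_commutator y.2 x.2)) hx⟩
  let M := Q ⧸ S.subgroupOf Q
  have hcomm : ∀ a b : M, a * b = b * a := fun a b => by
    induction a using QuotientGroup.induction_on with | _ a =>
    induction b using QuotientGroup.induction_on with | _ b =>
    rw [← QuotientGroup.mk_mul, ← QuotientGroup.mk_mul, QuotientGroup.eq]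
    refine hQQ ?_
    have h := Subgroup.commutator_mem_commutator (Q.inv_mem b.2) (Q.inv_mem a.2)
    simpa [commutatorElement_def, mul_assoc] using h
  let mk := QuotientGroup.mk' (S.subgroupOf Q)
  let c : MulAut Q := Subgroup.normalizerMonoidHom Q ⟨z, hQn⟩
  have hc : ∀ x : Q, (c x : G) = z * x * z⁻¹ := fun _ => rfl
  let δ : M →* M := QuotientGroup.lift (S.subgroupOf Q)
    { toFun := fun x => mk (c x) * (mk x)⁻¹
      map_one' := by simp
      map_mul' := fun x y => by
        rw [map_mul, map_mul, map_mul, mul_inv_rev, hcomm (mk y)⁻¹]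
        rw [mul_assoc, ← mul_assoc (mk (c y)), hcomm (mk (c y)) (mk x)⁻¹, ← mul_assoc, ← mul_assoc,
          ← mul_assoc] }
    (fun x hx => by
      show mk (c x) * (mk x)⁻¹ = 1
      have h1 : mk x = 1 := (QuotientGroup.eq_one_iff x).2 hx
      have h2 : mk (c x) = 1 := (QuotientGroup.eq_one_iff _).2 (by
        show (c x : G) ∈ S
        rw [hc]
        exact (Subgroup.mem_normalizer_iff.1 hSn _).1 hx)
      rw [h1, h2, inv_one, one_mul])
  have hδ : ∀ x : Q, δ (mk x) = mk (c x) * (mk x)⁻¹ := fun x => rfl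
  have hR : ∀ (i : ℤ) (x : Q), mk ((c ^ i) x) * (mk x)⁻¹ ∈ δ.range := by
    intro i
    induction i using Int.induction_on with
    | zero => intro x; simp
    | succ i ih =>
      intro x
      have h := δ.range.mul_mem ⟨mk ((c ^ (i : ℤ)) x), rfl⟩ (ih x)
      rw [hδ, ← mul_assoc, inv_mul_cancel_right, ← MulAut.mul_apply, ← zpow_one_add, add_comm] at h
      exact h
    | pred i ih =>
      intro x
      have h := δ.range.mul_mem (δ.range.inv_mem ⟨mk ((c ^ (-(i : ℤ) - 1)) x), rfl⟩) (ih x)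
      rw [hδ, ← MulAut.mul_apply, ← zpow_one_add, show (1 : ℤ) + (-(i : ℤ) - 1) = -(i : ℤ) by ring,
        mul_inv_rev, inv_inv, ← mul_assoc, inv_mul_cancel_right] at h
      exact h
  have hsurj : Function.Surjective δ := by
    have hP : ⁅Q, Subgroup.zpowers z⁆ ≤ (δ.range.comap mk).map Q.subtype := by
      refine Subgroup.commutator_le.2 fun b hb d hd => ?_
      obtain ⟨i, rfl⟩ := Subgroup.mem_zpowers_iff.1 hd
      have hpow : ∀ (x : Q), (((c ^ i) x : Q) : G) = z ^ i * x * (z ^ i)⁻¹ := fun x => by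
        simp only [c, ← map_zpow]
        rfl
      refine ⟨⟨b, hb⟩ * (c ^ i) ⟨b, hb⟩⁻¹, ?_, ?_⟩
      · show mk _ ∈ δ.range
        rw [map_mul, hcomm]
        have h := hR i ⟨b, hb⟩⁻¹
        rw [map_inv mk, inv_inv] at h
        exact h
      · show b * (((c ^ i) ⟨b, hb⟩⁻¹ : Q) : G) = _
        rw [hpow, commutatorElement_def]
        simp [mul_assoc]
    intro y
    obtain ⟨x, rfl⟩ := QuotientGroup.mk'_surjective _ y
    obtain ⟨x', hx', he⟩ := hP (hgen x.2)
    rw [Q.subtype_injective he] at hx'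
    exact hx'
  have hinj : Function.Injective δ := Finite.injective_iff_surjective.2 hsurj
  have h1 : δ (mk ⟨g, hg⟩) = 1 := by
    rw [hδ, hcomm, ← map_inv, ← map_mul, QuotientGroup.mk'_apply, QuotientGroup.eq_one_iff]
    exact hgz
  have h2 : mk ⟨g, hg⟩ = 1 := hinj (h1.trans (map_one δ).symm)
  exact (QuotientGroup.eq_one_iff (⟨g, hg⟩ : Q)).1 h2

variable {K : Type u} [Field K] {V : Type v} [AddCommGroup V] [Module K V]

/-- The elements of `Q` whose action on the block `e` commutes with that of all of `Q`. -/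
def blockKer (ρ : G →* Module.End K V) (Q : Subgroup G) (e : Module.End K V)
    (hQe : ∀ g ∈ Q, Commute (ρ g) e) : Subgroup G where
  carrier := {g | g ∈ Q ∧ ∀ b ∈ Q, ρ g * ρ b * e = ρ b * ρ g * e}
  one_mem' := ⟨Q.one_mem, fun b _ => by rw [map_one, one_mul, mul_one]⟩
  mul_mem' {x y} hx hy := ⟨Q.mul_mem hx.1 hy.1, fun b hb => by
    calc ρ (x * y) * ρ b * e = ρ x * (ρ y * ρ b * e) := by rw [map_mul]; simp only [mul_assoc]
      _ = ρ x * ρ b * (ρ y * e) := by rw [hy.2 b hb]; simp only [mul_assoc]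
      _ = ρ x * ρ b * e * ρ y := by rw [(hQe y hy.1).eq]; simp only [mul_assoc]
      _ = ρ b * ρ x * e * ρ y := by rw [hx.2 b hb]
      _ = ρ b * ρ x * (ρ y * e) := by rw [(hQe y hy.1).eq]; simp only [mul_assoc]
      _ = _ := by rw [map_mul]; simp only [mul_assoc]⟩
  inv_mem' {x} hx := ⟨Q.inv_mem hx.1, fun b hb => by
    have hi : ρ x⁻¹ * ρ x = 1 := by rw [← map_mul, inv_mul_cancel, map_one]
    have hi' : ρ x * ρ x⁻¹ = 1 := by rw [← map_mul, mul_inv_cancel, map_one]
    calc ρ x⁻¹ * ρ b * e = ρ x⁻¹ * ρ b * e * (ρ x * ρ x⁻¹) := by rw [hi', mul_one]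
      _ = ρ x⁻¹ * (ρ b * ρ x * e) * ρ x⁻¹ := by
        simp only [mul_assoc]
        rw [← mul_assoc e (ρ x), ← (hQe x hx.1).eq]
        simp only [mul_assoc]
      _ = ρ b * (e * ρ x⁻¹) := by
        rw [← hx.2 b hb]
        simp only [← mul_assoc, hi, one_mul]
      _ = _ := by rw [← (hQe _ (Q.inv_mem hx.1)).eq, mul_assoc]⟩

variable {ρ : G →* Module.End K V} {Q : Subgroup G} {e : Module.End K V}
  {hQe : ∀ g ∈ Q, Commute (ρ g) e}

theorem mem_blockKer {g : G} :
    g ∈ blockKer ρ Q e hQe ↔ g ∈ Q ∧ ∀ b ∈ Q, ρ g * ρ b * e = ρ b * ρ g * e := Iff.rfl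

theorem blockKer_le : blockKer ρ Q e hQe ≤ Q := fun _ h => h.1

theorem commutator_le_blockKer
    (hcomm : ∀ a ∈ Q, ∀ b ∈ Q, ∃ c : K, ρ (a * b * a⁻¹ * b⁻¹) * e = c • e) :
    ⁅Q, Q⁆ ≤ blockKer ρ Q e hQe :=
  Subgroup.commutator_le.2 fun a ha b hb => by
    refine ⟨Q.mul_mem (Q.mul_mem (Q.mul_mem ha hb) (Q.inv_mem ha)) (Q.inv_mem hb), fun x hx => ?_⟩
    obtain ⟨c, hc⟩ := hcomm a ha b hb
    rw [commutatorElement_def]
    rw [mul_assoc (ρ x), hc, mul_assoc, (hQe x hx).eq, ← mul_assoc, hc, mul_smul_comm, smul_mul_assoc,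
      ← (hQe x hx).eq]

theorem blockKer_normalizer {h : G} (hQ : h ∈ Subgroup.normalizer (Q : Set G))
    (he : Commute (ρ h) e) : h ∈ Subgroup.normalizer (blockKer ρ Q e hQe : Set G) := by
  have key : ∀ {h : G}, h ∈ Subgroup.normalizer (Q : Set G) → Commute (ρ h) e →
      ∀ g ∈ blockKer ρ Q e hQe, h * g * h⁻¹ ∈ blockKer ρ Q e hQe := by
    intro h hQ he g hg
    refine ⟨(Subgroup.mem_normalizer_iff.1 hQ g).1 hg.1, fun b hb => ?_⟩
    have hb' : h⁻¹ * b * h ∈ Q := by
      have := (Subgroup.mem_normalizer_iff.1 ((Subgroup.normalizer (Q : Set G)).inv_mem hQ) b).1 hb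
      simpa using this
    have h2 := congrArg (fun F => ρ h * F * ρ h⁻¹) (hg.2 _ hb')
    have hhe : e * ρ h⁻¹ = ρ h⁻¹ * e := by
      have hi : ρ h⁻¹ * ρ h = 1 := by rw [← map_mul, inv_mul_cancel, map_one]
      have hi' : ρ h * ρ h⁻¹ = 1 := by rw [← map_mul, mul_inv_cancel, map_one]
      calc e * ρ h⁻¹ = ρ h⁻¹ * (ρ h * e) * ρ h⁻¹ := by rw [← mul_assoc, hi, one_mul]
        _ = _ := by rw [he.eq, mul_assoc (ρ h⁻¹), mul_assoc e, hi', mul_one]
    simp only [mul_assoc] at h2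
    rw [hhe] at h2
    simp only [← mul_assoc, ← map_mul] at h2
    rw [← map_mul, ← map_mul]
    convert h2 using 3 <;> group
  rw [Subgroup.mem_normalizer_iff]
  intro g
  refine ⟨key hQ he g, fun hg => ?_⟩
  have hi : Commute (ρ h⁻¹) e := by
    have h1 : Commute ((ρ.toHomUnits h : (Module.End K V)ˣ) : Module.End K V) e := he
    have h2 := h1.units_inv_left
    rw [← map_inv] at h2
    exact h2
  have := key ((Subgroup.normalizer (Q : Set G)).inv_mem hQ) hi _ hg
  simpa [mul_assoc] using this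

/-- The dichotomy on a block with scalar commutators. -/
theorem block_dichotomy [Finite G] [IsAlgClosed K] [FiniteDimensional K V] {p q : ℕ}
    [Fact p.Prime] [Fact q.Prime] (hqK : (q : K) ≠ 0) (hQ : IsPGroup q Q) (he : e * e = e)
    (hQe : ∀ g ∈ Q, Commute (ρ g) e) {y : G} (hy : y ∈ Subgroup.normalizer (Q : Set G))
    (hye : Commute (ρ y) e)
    (hcomm : ∀ a ∈ Q, ∀ b ∈ Q, ∃ c : K, ρ (a * b * a⁻¹ * b⁻¹) * e = c • e)
    {k : ℕ} (hk : 1 ≤ k) (hyk : y ^ p ^ k = 1)
    (hgen : Q ≤ ⁅Q, Subgroup.zpowers (y ^ p ^ (k - 1))⁆)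
    {s : ℕ} (hs : s < p ^ k) {c : ℕ → K} (hc : c s ≠ 0)
    (hrel : (∑ i ∈ Finset.range (s + 1), c i • ρ y ^ i) * e = 0) :
    (∀ g ∈ Q, ρ g * e = e) ∨ ∃ j m : ℕ, j ≤ k ∧ 1 ≤ m ∧ p ^ j - 1 = q ^ m ∧ q ^ m ≤ s ∧
      (blockKer ρ Q e hQe).relIndex Q = q ^ (2 * m) := by
  classical
  have hp : p.Prime := Fact.out
  set W := LinearMap.range e
  set C := Submonoid.centralizer ({e} : Set (Module.End K V))
  have hfix : ∀ w : W, e (w : V) = w := fun ⟨w, v, hv⟩ => by
    subst hv
    exact LinearMap.congr_fun he v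
  let ρ' : {g : G // Commute (ρ g) e} → Module.End K W :=
    fun g => corner e ⟨ρ g.1, by rintro x rfl; exact g.2.symm⟩
  let σ : Q →* Module.End K W :=
    (corner e).comp ((ρ.comp Q.subtype).codRestrict C (fun g => by rintro x rfl; exact (hQe g g.2).symm))
  have hσ : ∀ (g : Q) (w : W), ((σ g w : W) : V) = ρ g w := fun g w => rfl
  have hyinv : Commute (ρ y⁻¹) e := by
    have h1 : Commute ((ρ.toHomUnits y : (Module.End K V)ˣ) : Module.End K V) e := hye
    have h2 := h1.units_inv_left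
    rw [← map_inv] at h2
    exact h2
  let θ : (Module.End K W)ˣ :=
    ⟨ρ' ⟨y, hye⟩, ρ' ⟨y⁻¹, hyinv⟩,
      LinearMap.ext fun w => Subtype.ext (by
        show ρ y (ρ y⁻¹ (w : V)) = w
        rw [← Module.End.mul_apply, ← map_mul, mul_inv_cancel, map_one, Module.End.one_apply]),
      LinearMap.ext fun w => Subtype.ext (by
        show ρ y⁻¹ (ρ y (w : V)) = w
        rw [← Module.End.mul_apply, ← map_mul, inv_mul_cancel, map_one, Module.End.one_apply])⟩
  have hθi : ∀ (i : ℕ) (w : W), ((((θ : Module.End K W) ^ i) w : W) : V) = (ρ y ^ i) w := by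
    intro i
    induction i with
    | zero => intro w; rfl
    | succ i ih =>
      intro w
      rw [pow_succ, pow_succ, Module.End.mul_apply, Module.End.mul_apply, ih]
      rfl
  let φ : MulAut Q := Subgroup.normalizerMonoidHom Q ⟨y, hy⟩
  have hφi : ∀ (i : ℕ) (g : Q), (((φ ^ i) g : Q) : G) = y ^ i * g * (y ^ i)⁻¹ := fun i g => by
    simp only [φ, ← map_pow]
    rfl
  have hθσ : ∀ g, (θ : Module.End K W) * σ g = σ (φ g) * (θ : Module.End K W) := fun g =>
    LinearMap.ext fun w => Subtype.ext (by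
      show ρ y (ρ g (w : V)) = ρ ((φ g : Q) : G) (ρ y (w : V))
      rw [← Module.End.mul_apply, ← map_mul, ← Module.End.mul_apply (ρ ((φ g : Q) : G)), ← map_mul,
        show ((φ g : Q) : G) = y * g * y⁻¹ from rfl, inv_mul_cancel_right])
  have hθP : θ ^ p ^ k = 1 := Units.ext (LinearMap.ext fun w => Subtype.ext (by
    rw [Units.val_pow_eq_pow_val, hθi, ← map_pow, hyk, map_one]
    rfl))
  have hrelW : ∑ i ∈ Finset.range (s + 1), c i • (θ : Module.End K W) ^ i = 0 :=
    LinearMap.ext fun w => Subtype.ext (by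
      have h := LinearMap.congr_fun hrel (w : V)
      rw [Module.End.mul_apply, hfix] at h
      simp only [LinearMap.sum_apply, LinearMap.smul_apply, LinearMap.zero_apply] at h
      simp only [LinearMap.sum_apply, LinearMap.smul_apply, LinearMap.zero_apply,
        AddSubmonoidClass.coe_finsetSum, Submodule.coe_smul, hθi, ZeroMemClass.coe_zero]
      exact h)
  have hσcomm : ∀ a b : Q, ∃ d : K, σ (a * b * a⁻¹ * b⁻¹) = d • (1 : Module.End K W) := by
    intro a b
    obtain ⟨d, hd⟩ := hcomm a a.2 b b.2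
    refine ⟨d, LinearMap.ext fun w => Subtype.ext ?_⟩
    have h := LinearMap.congr_fun hd (w : V)
    rw [Module.End.mul_apply, hfix, LinearMap.smul_apply, hfix] at h
    exact h
  have hker : ∀ g : Q, g ∈ commKer σ ↔ (g : G) ∈ blockKer ρ Q e hQe := by
    intro g
    rw [mem_commKer, mem_blockKer]
    constructor
    · intro h
      refine ⟨g.2, fun b hb => LinearMap.ext fun v => ?_⟩
      exact congrArg Subtype.val (LinearMap.congr_fun (h ⟨b, hb⟩).eq ⟨e v, v, rfl⟩)
    · intro h b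
      refine LinearMap.ext fun w => Subtype.ext ?_
      have h2 := LinearMap.congr_fun (h.2 b b.2) (w : V)
      simp only [Module.End.mul_apply, hfix] at h2
      exact h2
  set z := y ^ p ^ (k - 1) with hz
  have hzQ : z ∈ Subgroup.normalizer (Q : Set G) := Subgroup.pow_mem _ hy _
  by_cases hab : ∀ a b : Q, Commute (σ a) (σ b)
  · left
    let A : Subgroup (Module.End K W)ˣ := σ.toHomUnits.range
    haveI : Finite A := Finite.of_surjective σ.toHomUnits.rangeRestrict σ.toHomUnits.rangeRestrict_surjective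
    haveI : IsMulCommutative A := ⟨⟨by
      rintro ⟨_, a, rfl⟩ ⟨_, b, rfl⟩
      exact Subtype.ext (Units.ext (hab a b))⟩⟩
    have hA : (Nat.card A : K) ≠ 0 := by
      obtain ⟨j, hj⟩ := IsPGroup.iff_card.1 (hQ.of_surjective _ σ.toHomUnits.rangeRestrict_surjective)
      rw [hj, Nat.cast_pow]
      exact pow_ne_zero _ hqK
    have hθA : θ ∈ Subgroup.normalizer (A : Set (Module.End K W)ˣ) := by
      rw [Subgroup.mem_normalizer_iff]
      intro x
      have hθu : ∀ g, θ * σ.toHomUnits g = σ.toHomUnits (φ g) * θ := fun g => Units.ext (hθσ g)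
      constructor
      · rintro ⟨g, rfl⟩
        exact ⟨φ g, by rw [hθu, mul_inv_cancel_right]⟩
      · rintro ⟨g, hg⟩
        obtain ⟨g', rfl⟩ := φ.surjective g
        refine ⟨g', ?_⟩
        have h1 := hθu g'
        rw [hg, inv_mul_cancel_right] at h1
        exact mul_left_cancel h1
    have hzc : ∀ b : Q, Commute ((θ ^ p ^ (k - 1) : (Module.End K W)ˣ) : Module.End K W) (σ b) :=
      fun b => commute_of_relation A hA hθA hp hk hθP hs hc hrelW ⟨_, b, rfl⟩
    have hP : ⁅Q, Subgroup.zpowers z⁆ ≤ σ.ker.map Q.subtype := by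
      refine Subgroup.commutator_le.2 fun b hb d hd => ?_
      haveI : Finite G := inferInstance
      obtain ⟨i, rfl⟩ := (isOfFinOrder_of_finite z).mem_zpowers_iff_mem_range_orderOf.1 hd |>
        Finset.mem_image.1 |>.imp fun _ h => h.2
      have hin : ⁅b, z ^ i⁆ ∈ Q :=
        commutator_le_left (Subgroup.zpowers_le.2 hzQ)
          (Subgroup.commutator_mem_commutator hb (Subgroup.pow_mem _ (Subgroup.mem_zpowers z) i))
      refine ⟨⟨_, hin⟩, ?_, rfl⟩
      rw [SetLike.mem_coe, MonoidHom.mem_ker]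
      refine LinearMap.ext fun w => Subtype.ext ?_
      show ρ ⁅b, z ^ i⁆ (w : V) = w
      have h := (hzc (⟨b, hb⟩⁻¹)).pow_left i
      rw [Units.val_pow_eq_pow_val, ← pow_mul] at h
      have h2 := congrArg Subtype.val (LinearMap.congr_fun h.eq w)
      simp only [Module.End.mul_apply, hθi] at h2
      rw [hσ, hσ, hθi, ← map_pow, pow_mul, ← hz] at h2
      have h3 : ρ ⁅b, z ^ i⁆ (w : V) = ρ b (ρ (z ^ i) (ρ b⁻¹ (ρ (z ^ i)⁻¹ (w : V)))) := by
        simp only [commutatorElement_def, map_mul, Module.End.mul_apply]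
      rw [h3]
      have h4 : ρ (z ^ i)⁻¹ (w : V) ∈ W := by
        have hzi : Commute (ρ (z ^ i)⁻¹) e := by
          have h1 : Commute ((ρ.toHomUnits (z ^ i) : (Module.End K V)ˣ) : Module.End K V) e := by
            show Commute (ρ (z ^ i)) e
            rw [map_pow, hz, map_pow, ← pow_mul]
            exact hye.pow_left _
          have h2 := h1.units_inv_left
          rw [← map_inv] at h2
          exact h2
        exact ⟨ρ (z ^ i)⁻¹ (w : V), by
          rw [← Module.End.mul_apply, ← hzi.eq, Module.End.mul_apply, hfix]⟩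
      have h5 := (hzc (⟨b, hb⟩⁻¹)).pow_left i
      rw [Units.val_pow_eq_pow_val, ← pow_mul] at h5
      have h6 := congrArg Subtype.val (LinearMap.congr_fun h5.eq ⟨_, h4⟩)
      rw [Module.End.mul_apply, Module.End.mul_apply, hσ, hθi, hθi, hσ, ← map_pow, pow_mul, ← hz] at h6
      simp only [InvMemClass.coe_inv] at h6
      rw [h6, ← Module.End.mul_apply (ρ (z ^ i)), ← map_mul,
        mul_inv_cancel, map_one, Module.End.one_apply, ← Module.End.mul_apply, ← map_mul,
        mul_inv_cancel, map_one, Module.End.one_apply]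
    intro g hg
    obtain ⟨g', hg', rfl⟩ := hP (hgen hg)
    refine LinearMap.ext fun v => ?_
    exact congrArg Subtype.val (LinearMap.congr_fun (MonoidHom.mem_ker.1 hg') ⟨e v, v, rfl⟩)
  right
  push Not at hab
  obtain ⟨j, m, hj, h1, h2, h3, h4⟩ := exceptional (p := p) hqK hQ σ hσcomm hab φ θ hk hθσ hθP
    (fun g i hi hip hg => by
      rw [hker] at hg ⊢
      have hgy : (g : G)⁻¹ * (y ^ i * g * (y ^ i)⁻¹) ∈ blockKer ρ Q e hQe := by
        have : ((g⁻¹ * (φ ^ i) g : Q) : G) = (g : G)⁻¹ * (y ^ i * g * (y ^ i)⁻¹) := by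
          rw [Subgroup.coe_mul, Subgroup.coe_inv, hφi]
        rwa [this] at hg
      have hyS : y ∈ Subgroup.normalizer (blockKer ρ Q e hQe : Set G) := blockKer_normalizer hy hye
      have hstab : ∀ n : ℕ, (g : G)⁻¹ * ((y ^ i) ^ n * g * ((y ^ i) ^ n)⁻¹) ∈ blockKer ρ Q e hQe := by
        intro n
        induction n with
        | zero => simp
        | succ n ih =>
          have h := (blockKer ρ Q e hQe).mul_mem hgy
            ((Subgroup.mem_normalizer_iff.1 (Subgroup.pow_mem _ hyS i) _).1 ih)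
          convert h using 1
          rw [pow_succ' (y ^ i)]
          group
      obtain ⟨n, hn⟩ : ∃ n : ℕ, (y ^ i) ^ n = z := by
        obtain ⟨t, u, hu, hiu⟩ := Nat.exists_eq_pow_mul_and_not_dvd hi.ne' p hp.ne_one
        have ht : t < k := by
          by_contra hle
          have : p ^ k ≤ p ^ t * u := (Nat.pow_le_pow_right hp.pos (by omega)).trans
            (Nat.le_mul_of_pos_right _ (Nat.pos_of_ne_zero fun h0 => hu (h0 ▸ dvd_zero p)))
          omega
        obtain ⟨r, -, hr⟩ := Nat.exists_mul_mod_eq_one_of_coprime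
          ((hp.coprime_iff_not_dvd.2 hu).symm.pow_right (k - t)) (Nat.one_lt_pow (by omega) hp.one_lt)
        refine ⟨r * p ^ (k - 1 - t), ?_⟩
        have e1 : i * (r * p ^ (k - 1 - t)) = p ^ (k - 1) * (u * r) := by
          rw [hiu, show p ^ (k - 1) = p ^ t * p ^ (k - 1 - t) by rw [← pow_add]; congr 1; omega]
          ring
        rw [← pow_mul, e1, pow_mul, ← hz]
        have hzk : z ^ p ^ (k - t) = 1 := by
          rw [hz, ← pow_mul, ← pow_add]
          refine pow_eq_one_iff_modEq.2 ?_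
          have hd : orderOf y ∣ p ^ k := orderOf_dvd_of_pow_eq_one hyk
          exact Nat.modEq_zero_iff_dvd.2 (hd.trans (pow_dvd_pow p (by omega)))
        rw [← Nat.div_add_mod (u * r) (p ^ (k - t)), hr, pow_add, pow_mul, hzk, one_pow, one_mul, pow_one]
      have hz2 := hstab n
      rw [hn] at hz2
      exact mem_of_commutator_mem blockKer_le (commutator_le_blockKer hcomm) hzQ
        (Subgroup.pow_mem _ hyS _) hgen g.2 hz2)
    hs hc hrelW
  refine ⟨j, m, hj, h1, h2, h3, ?_⟩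
  rw [Subgroup.relIndex, ← show commKer σ = (blockKer ρ Q e hQe).subgroupOf Q from
    Subgroup.ext fun g => hker g]
  exact h4

end CfsgLib.HallHigmanExc
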