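/-
Hall-Higman technique, part 4: the blocks of the centre of a class two `q`-subgroup.
-/
import Mathlib
import Cfsg.Agent.Lib.HallHigmanExc.Config
import Cfsg.Agent.Lib.HallHigmanB.Minimal

set_option autoImplicit false
set_option linter.style.haveILetI false
set_option linter.unusedSectionVars false

open scoped commutatorElement IsMulCommutative

namespace CfsgLib.HallHigmanExc

universe u v w

variable {G : Type w} [Group G] {K : Type u} [Field K] {V : Type v} [AddCommGroup V] [Module K V]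

/-- The image of the centre of `Q` among the units. -/
def centerImage (ρ : G →* Module.End K V) (Q : Subgroup G) : Subgroup (Module.End K V)ˣ :=
  (Q ⊓ Subgroup.centralizer (Q : Set G)).map ρ.toHomUnits

variable {ρ : G →* Module.End K V} {Q : Subgroup G}

instance finite_centerImage [Finite G] : Finite (centerImage ρ Q) := by
  refine Finite.of_surjective
    (fun g : (Q ⊓ Subgroup.centralizer (Q : Set G) : Subgroup G) =>
      (⟨ρ.toHomUnits g, Subgroup.mem_map_of_mem _ g.2⟩ : centerImage ρ Q)) ?_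
  rintro ⟨_, g, hg, rfl⟩
  exact ⟨⟨g, hg⟩, rfl⟩

instance isMulCommutative_centerImage : IsMulCommutative (centerImage ρ Q) := ⟨⟨by
  rintro ⟨_, g, hg, rfl⟩ ⟨_, h, hh, rfl⟩
  refine Subtype.ext ?_
  show ρ.toHomUnits g * ρ.toHomUnits h = ρ.toHomUnits h * ρ.toHomUnits g
  rw [← map_mul, ← map_mul, Subgroup.mem_centralizer_iff.1 hh.2 g hg.1]⟩⟩

theorem card_centerImage_ne_zero [Finite G] {q : ℕ} [Fact q.Prime] (hQ : IsPGroup q Q)
    (hqK : (q : K) ≠ 0) : (Nat.card (centerImage ρ Q) : K) ≠ 0 := by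
  have h : IsPGroup q (centerImage ρ Q) := (hQ.to_le inf_le_left).map ρ.toHomUnits
  obtain ⟨j, hj⟩ := IsPGroup.iff_card.1 h
  rw [hj, Nat.cast_pow]
  exact pow_ne_zero _ hqK

theorem commute_blk_of_mem [Finite G] (l : centerImage ρ Q →* Kˣ) {g : G} (hg : g ∈ Q) :
    Commute (ρ g) (blk (centerImage ρ Q) l) := by
  refine commute_blk _ (fun a => ?_) l
  obtain ⟨z, hz, hza⟩ := a.2
  rw [← hza]
  show ρ g * ρ z = ρ z * ρ g
  rw [← map_mul, ← map_mul, Subgroup.mem_centralizer_iff.1 hz.2 g hg]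

theorem scalar_commutators [Finite G] (hcl : ⁅Q, Q⁆ ≤ Subgroup.centralizer (Q : Set G))
    (l : centerImage ρ Q →* Kˣ) {a b : G} (ha : a ∈ Q) (hb : b ∈ Q) :
    ∃ c : K, ρ (a * b * a⁻¹ * b⁻¹) * blk (centerImage ρ Q) l = c • blk (centerImage ρ Q) l := by
  have h : a * b * a⁻¹ * b⁻¹ ∈ Q ⊓ Subgroup.centralizer (Q : Set G) :=
    ⟨Q.mul_mem (Q.mul_mem (Q.mul_mem ha hb) (Q.inv_mem ha)) (Q.inv_mem hb),
      hcl (Subgroup.commutator_mem_commutator ha hb)⟩
  exact ⟨_, mul_blk (centerImage ρ Q) l ⟨_, Subgroup.mem_map_of_mem ρ.toHomUnits h⟩⟩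

theorem mem_normalizer_centerImage {g : G} (hg : g ∈ Subgroup.normalizer (Q : Set G)) :
    ρ.toHomUnits g ∈ Subgroup.normalizer (centerImage ρ Q : Set (Module.End K V)ˣ) := by
  have h : g ∈ Subgroup.normalizer ((Q ⊓ Subgroup.centralizer (Q : Set G) : Subgroup G) : Set G) := by
    rw [← CfsgLib.CoprimeAction.conj_smul_eq_self] at hg ⊢
    show Subgroup.map (MulAut.conj g).toMonoidHom _ = _
    rw [Subgroup.map_inf _ _ _ (MulAut.conj g).injective]
    congr 1
    calc (Subgroup.centralizer (Q : Set G)).map (MulAut.conj g).toMonoidHom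
        = Subgroup.centralizer ((Q.map (MulAut.conj g).toMonoidHom : Subgroup G) : Set G) := by
          ext x
          rw [Subgroup.mem_map_equiv, Subgroup.mem_centralizer_iff, Subgroup.mem_centralizer_iff]
          constructor
          · rintro h _ ⟨y, hy, rfl⟩
            have := congrArg (MulAut.conj g) (h y hy)
            simpa [map_mul, mul_assoc] using this
          · intro h y hy
            apply (MulAut.conj g).injective
            have := h _ ⟨y, hy, rfl⟩
            simpa [map_mul, mul_assoc] using this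
      _ = _ := by
          rw [show Q.map (MulAut.conj g).toMonoidHom = Q from hg]
  exact Subgroup.le_normalizer_map ρ.toHomUnits (Subgroup.mem_map_of_mem _ h)

/-- An element normalizing `Q` fixes a block or moves it to an orthogonal one. -/
theorem commute_or_mul_eq_zero [Finite G] [IsAlgClosed K] {q : ℕ} [Fact q.Prime]
    (hQ : IsPGroup q Q) (hqK : (q : K) ≠ 0) (l : centerImage ρ Q →* Kˣ) {g : G}
    (hg : g ∈ Subgroup.normalizer (Q : Set G)) :
    Commute (ρ g) (blk (centerImage ρ Q) l) ∨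
      blk (centerImage ρ Q) l * ρ g * blk (centerImage ρ Q) l = 0 := by
  classical
  have hgA := mem_normalizer_centerImage (ρ := ρ) hg
  have h : ρ g * blk (centerImage ρ Q) l =
      blk (centerImage ρ Q) (twist _ hgA l) * ρ g := unit_mul_blk _ hgA l
  by_cases ht : twist _ hgA l = l
  · left
    rw [ht] at h
    exact h
  · right
    rw [mul_assoc, h, ← mul_assoc, blk_mul_blk _ (card_centerImage_ne_zero hQ hqK),
      if_neg (fun h' => ht h'.symm), zero_mul]

/-- The dichotomy for the block of a character of the centre. -/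
theorem char_block [Finite G] [IsAlgClosed K] [FiniteDimensional K V] {p q : ℕ}
    [Fact p.Prime] [Fact q.Prime] (hqK : (q : K) ≠ 0) (hQ : IsPGroup q Q)
    (hcl : ⁅Q, Q⁆ ≤ Subgroup.centralizer (Q : Set G))
    {x : G} (hx : x ∈ Subgroup.normalizer (Q : Set G)) {n : ℕ} (hn : 1 ≤ n) (hxn : x ^ p ^ n = 1)
    (hgen : Q ≤ ⁅Q, Subgroup.zpowers (x ^ p ^ (n - 1))⁆)
    {s : ℕ} (hs : s < p ^ n) {c : ℕ → K} (hc : c s ≠ 0)
    (hrel : ∑ i ∈ Finset.range (s + 1), c i • ρ x ^ i = 0)
    (l : centerImage ρ Q →* Kˣ) (hl : blk (centerImage ρ Q) l ≠ 0) :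
    ∃ t : ℕ, t < n ∧ p ^ t ≤ s ∧
      (∀ i, Commute (ρ (x ^ i)) (blk (centerImage ρ Q) l) ↔ p ^ t ∣ i) ∧
      ((∀ g ∈ Q, ρ g * blk (centerImage ρ Q) l = blk (centerImage ρ Q) l) ∨
        ∃ j m : ℕ, j ≤ n - t ∧ 1 ≤ m ∧ p ^ j - 1 = q ^ m ∧ q ^ m ≤ s / p ^ t ∧
          (blockKer ρ Q (blk (centerImage ρ Q) l) (fun _ h => commute_blk_of_mem l h)).relIndex Q =
            q ^ (2 * m)) := by
  classical
  have hp : p.Prime := Fact.out
  have hA := card_centerImage_ne_zero (ρ := ρ) hQ hqK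
  have hxA := mem_normalizer_centerImage (ρ := ρ) hx
  have hθP : ρ.toHomUnits x ^ p ^ n = 1 := by rw [← map_pow, hxn, map_one]
  obtain ⟨a, ha0, hadvd, has, hiff, hcomm, c', hc', hrel'⟩ :=
    exists_block_relation (centerImage ρ Q) hA hxA hθP hs hc hrel hl
  obtain ⟨t, htn, rfl⟩ := (Nat.dvd_prime_pow hp).1 hadvd
  have htn' : t < n := lt_of_le_of_ne htn fun h => by subst h; omega
  set e := blk (centerImage ρ Q) l
  refine ⟨t, htn', has, fun i => ?_, ?_⟩
  · have h : ρ (x ^ i) * e = blk (centerImage ρ Q) (twist _ (pow_mem hxA i) l) * ρ (x ^ i) := by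
      have h0 := unit_mul_blk (centerImage ρ Q) (pow_mem hxA i) l
      rw [Units.val_pow_eq_pow_val] at h0
      rw [map_pow]
      exact h0
    rw [← hiff]
    constructor
    · intro hc2
      by_contra hne
      apply hl
      have h2 : blk (centerImage ρ Q) (twist _ (pow_mem hxA i) l) = e := by
        have h3 := congrArg (· * ρ (x ^ i)⁻¹) (h.symm.trans hc2)
        simpa only [mul_assoc, ← map_mul, mul_inv_cancel, map_one, mul_one] using h3
      calc e = e * e := by rw [blk_mul_blk _ hA, if_pos rfl]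
        _ = blk (centerImage ρ Q) (twist _ (pow_mem hxA i) l) * e := by rw [h2]
        _ = 0 := by rw [blk_mul_blk _ hA, if_neg hne]
    · intro heq
      rw [heq] at h
      exact h
  obtain ⟨k, rfl⟩ : ∃ k, n = t + k := ⟨n - t, by omega⟩
  rw [Nat.add_sub_cancel_left]
  refine block_dichotomy (p := p) hqK hQ (by rw [blk_mul_blk _ hA, if_pos rfl])
    (fun g hg => commute_blk_of_mem l hg) (Subgroup.pow_mem _ hx (p ^ t))
    (by rw [map_pow]; exact hcomm) (fun a ha b hb => scalar_commutators hcl l ha hb)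
    (k := k) (by omega) (by rw [← pow_mul, ← pow_add, hxn]) ?_ (s := s / p ^ t) ?_ hc' ?_
  · rwa [← pow_mul, ← pow_add, show t + (k - 1) = t + k - 1 by omega]
  · rw [Nat.div_lt_iff_lt_mul (pow_pos hp.pos _), ← pow_add, add_comm]
    exact hs
  · simp only [map_pow]
    exact hrel'

/-- A short relation forces an exceptional `q`-subgroup. -/
theorem exists_exception [Finite G] [IsAlgClosed K] [FiniteDimensional K V] {p : ℕ} [Fact p.Prime]
    [CharP K p] (hsol : Cfsg.IsPSolvable p G) (hcore : Cfsg.pCore p G = ⊥)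
    (hρ : Function.Injective ρ) {x : G} {n : ℕ} (hn : 1 ≤ n) (hx : orderOf x = p ^ n)
    {s : ℕ} (hs : s < p ^ n) {c : ℕ → K} (hc : c s ≠ 0)
    (hrel : ∑ i ∈ Finset.range (s + 1), c i • ρ x ^ i = 0) :
    ∃ q j m : ℕ, q.Prime ∧ p ≠ q ∧ j ≤ n ∧ 1 ≤ m ∧ p ^ j - 1 = q ^ m ∧ q ^ m ≤ s ∧
      ∃ Q : Subgroup G, IsPGroup q Q ∧ ¬ IsMulCommutative Q := by
  classical
  have hp : p.Prime := Fact.out
  obtain ⟨q, hq, hpq, Q, hQ, hxQ, ⟨g₁, hg₁, hg₁'⟩, hmin⟩ :=
    CfsgLib.HallHigmanB.exists_minimal_config hsol hcore hn hx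
  haveI := Fact.mk hq
  set z := x ^ p ^ (n - 1) with hz
  have hqK : (q : K) ≠ 0 := by
    rw [Ne, CharP.cast_eq_zero_iff K p q]
    exact fun h => hpq ((Nat.prime_dvd_prime_iff_eq hp hq).1 h)
  obtain ⟨hgen, hcl, -⟩ := structure_of_minimal (A := Subgroup.zpowers x) (D := Subgroup.zpowers z)
    (Q := Q) hQ (Subgroup.zpowers_le.2 hxQ)
    (Subgroup.zpowers_le.2 (Subgroup.centralizer_le_normalizer _ (Subgroup.mem_centralizer_iff.2
      fun d hd => by
        obtain ⟨i, rfl⟩ := Subgroup.mem_zpowers_iff.1 hd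
        exact ((Commute.self_pow x (p ^ (n - 1))).zpow_right i).eq.symm)))
    (Subgroup.zpowers_le.2 (Subgroup.pow_mem _ hxQ _))
    (by
      obtain ⟨j, hj⟩ := IsPGroup.iff_card.1 hQ
      rw [Nat.card_zpowers, hj]
      exact ((((Nat.coprime_primes hp hq).2 hpq).pow_left n).coprime_dvd_left
        (hx ▸ orderOf_pow_dvd _)).pow_right j)
    (fun h => hg₁' (Subgroup.mem_centralizer_iff.1 (h (Subgroup.mem_zpowers z)) g₁ hg₁).symm)
    (fun R hR hxR => Subgroup.zpowers_le.2 (Subgroup.mem_centralizer_iff.2 fun g hg =>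
      (hmin R hR (hxR (Subgroup.mem_zpowers x)) g hg).symm))
  obtain ⟨hf, hsum⟩ := exists_sum_blk (K := K) (centerImage ρ Q) (card_centerImage_ne_zero hQ hqK)
  obtain ⟨l, hl⟩ : ∃ l : centerImage ρ Q →* Kˣ,
      ρ g₁ * blk (centerImage ρ Q) l ≠ blk (centerImage ρ Q) l := by
    by_contra! hall
    have h : ρ g₁ = 1 := by rw [← mul_one (ρ g₁), ← hsum, Finset.mul_sum]; simp [hall]
    have hg1 : g₁ = 1 := hρ (h.trans (map_one ρ).symm)
    exact hg₁' (by rw [hg1, mul_one, one_mul])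
  have hl0 : blk (centerImage ρ Q) l ≠ 0 := fun h => hl (by rw [h, mul_zero])
  obtain ⟨t, -, -, -, h⟩ := char_block (p := p) hqK hQ hcl hxQ hn (by rw [← hx, pow_orderOf_eq_one])
    hgen hs hc hrel l hl0
  rcases h with h | ⟨j, m, hj, hm, hjm, hms, hidx⟩
  · exact absurd (h g₁ hg₁) hl
  refine ⟨q, j, m, hq, hpq, le_trans hj (Nat.sub_le _ _), hm, hjm, hms.trans (Nat.div_le_self _ _),
    Q, hQ, fun hab => ?_⟩
  have h1 : blockKer ρ Q (blk (centerImage ρ Q) l) (fun _ h => commute_blk_of_mem l h) = Q := by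
    refine le_antisymm blockKer_le fun g hg => ⟨hg, fun b hb => ?_⟩
    rw [← map_mul, ← map_mul, show g * b = b * g from congrArg Subtype.val (hab.is_comm.comm ⟨g, hg⟩ ⟨b, hb⟩)]
  rw [h1, Subgroup.relIndex_self] at hidx
  exact absurd hidx.symm (Nat.one_lt_pow (by omega) hq.one_lt).ne'

end CfsgLib.HallHigmanExc
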