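/-
The linear representation of `G / O_p(G)` on the Frattini quotient of `O_p(G)`, with scalars
extended to an algebraically closed field.
-/
import Mathlib
import Cfsg.Agent.Lib.MetacyclicP.ExpBound
import Cfsg.Agent.Lib.HallHigmanExc.CharBlock

set_option autoImplicit false
set_option linter.style.haveILetI false
set_option linter.unusedSectionVars false

open scoped commutatorElement

namespace CfsgLib.HallHigmanExc

open Cfsg CfsgLib.Cores CfsgLib.PSolvable

universe w

variable {p : ℕ} [hp : Fact p.Prime]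

theorem exists_coordinates_aux {A : Type w} [AddCommGroup A] [Finite A] [Module (ZMod p) A] :
    ∃ (d : ℕ) (co : A →+ (Fin d → AlgebraicClosure (ZMod p)))
      (N : AddMonoid.End A →* Module.End (AlgebraicClosure (ZMod p))
        (Fin d → AlgebraicClosure (ZMod p))),
      Function.Injective co ∧ Function.Injective N ∧ (∀ f a, co (f a) = N f (co a)) ∧
      Submodule.span (AlgebraicClosure (ZMod p)) (Set.range co) = ⊤ := by
  classical
  haveI : Module.Finite (ZMod p) A := Module.Finite.of_finite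
  let K := AlgebraicClosure (ZMod p)
  let b := Module.finBasis (ZMod p) A
  let d := Module.finrank (ZMod p) A
  let φ := algebraMap (ZMod p) K
  let co : A →+ (Fin d → K) :=
    { toFun := fun a i => φ (b.repr a i)
      map_zero' := funext fun i => by simp
      map_add' := fun a a' => funext fun i => by simp }
  let L : AddMonoid.End A →* Module.End (ZMod p) A :=
    { toFun := fun f => f.toZModLinearMap p
      map_one' := rfl
      map_mul' := fun _ _ => rfl }
  let M : Module.End (ZMod p) A →* Module.End K (Fin d → K) :=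
    (((Matrix.toLinAlgEquiv' : Matrix (Fin d) (Fin d) K ≃ₐ[K] _).toRingEquiv.toRingHom.comp
      φ.mapMatrix).comp (LinearMap.toMatrixAlgEquiv b).toRingEquiv.toRingHom).toMonoidHom
  refine ⟨d, co, M.comp L, ?_, ?_, ?_, ?_⟩
  · exact fun a a' h => b.repr.injective (Finsupp.ext fun i => φ.injective (congrFun h i))
  · intro f f' h
    have h1 : L f = L f' :=
      (LinearMap.toMatrixAlgEquiv b).injective (Matrix.map_injective φ.injective
        ((Matrix.toLinAlgEquiv' : Matrix (Fin d) (Fin d) K ≃ₐ[K] _).injective h))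
    exact AddMonoidHom.ext fun a => LinearMap.congr_fun h1 a
  · intro f a
    funext i
    show φ (b.repr (L f a) i) = (((LinearMap.toMatrixAlgEquiv b (L f)).map φ).mulVec (co a)) i
    rw [show co a = φ ∘ (b.repr a) from rfl, ← RingHom.map_mulVec]
    congr 1
    exact (congrFun (LinearMap.toMatrix_mulVec_repr b b (L f) a) i).symm
  · rw [eq_top_iff, ← (Pi.basisFun K (Fin d)).span_eq, Submodule.span_le]
    rintro _ ⟨i, rfl⟩
    refine Submodule.subset_span ⟨b i, funext fun j => ?_⟩
    show φ (b.repr (b i) j) = _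
    rw [b.repr_self, Pi.basisFun_apply, Finsupp.single_apply, Pi.single_apply]
    simp only [apply_ite φ, map_one, map_zero, eq_comm]

/-- Coordinates over an algebraically closed field on a finite elementary abelian `p`-group. -/
theorem exists_coordinates {A : Type w} [AddCommGroup A] [Finite A] (hA : ∀ a : A, p • a = 0) :
    ∃ (d : ℕ) (co : A →+ (Fin d → AlgebraicClosure (ZMod p)))
      (N : AddMonoid.End A →* Module.End (AlgebraicClosure (ZMod p))
        (Fin d → AlgebraicClosure (ZMod p))),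
      Function.Injective co ∧ Function.Injective N ∧ (∀ f a, co (f a) = N f (co a)) ∧
      Submodule.span (AlgebraicClosure (ZMod p)) (Set.range co) = ⊤ :=
  @exists_coordinates_aux p hp A _ _ (AddCommGroup.zmodModule hA)

/-- A coordinate map on `O_p(G)` killing exactly the Frattini subgroup, with the faithful action of
`G / O_p(G)`. -/
theorem exists_frattini_rep {G : Type w} [Group G] [Finite G] (hG : IsPSolvable p G)
    (hO : pPrimeCore p G = ⊥) :
    ∃ (d : ℕ) (r : pCore p G → (Fin d → AlgebraicClosure (ZMod p)))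
      (ρ : G ⧸ pCore p G →* Module.End (AlgebraicClosure (ZMod p)) (Fin d → AlgebraicClosure (ZMod p))),
      Function.Injective ρ ∧ (∀ a b, r (a * b) = r a + r b) ∧
      (∀ a, r a = 0 ↔ a ∈ frattini (pCore p G)) ∧
      (∀ (g : G) (x : pCore p G),
        r ⟨g * x * g⁻¹, (inferInstance : (pCore p G).Normal).conj_mem _ x.2 g⟩ = ρ g (r x)) ∧
      Submodule.span (AlgebraicClosure (ZMod p)) (Set.range r) = ⊤ := by
  classical
  set P := pCore p G with hP
  have hPp : IsPGroup p P := isPGroup_pCore p G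
  set Φ := frattini P with hΦ
  haveI hΦn : Φ.Normal := inferInstance
  have hcomm : ∀ a b : P ⧸ Φ, a * b = b * a := fun a b => by
      induction a using QuotientGroup.induction_on with | _ a =>
      induction b using QuotientGroup.induction_on with | _ b =>
      rw [← QuotientGroup.mk_mul, ← QuotientGroup.mk_mul, QuotientGroup.eq]
      have hc := CfsgLib.PGroups.commutator_le_frattini hPp
        (Subgroup.commutator_mem_commutator (Subgroup.mem_top b⁻¹) (Subgroup.mem_top a⁻¹))
      simpa [commutatorElement_def, mul_assoc] using hc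
  letI : CommGroup (P ⧸ Φ) := { (inferInstance : Group (P ⧸ Φ)) with mul_comm := hcomm }
  have hexpA : ∀ a : Additive (P ⧸ Φ), p • a = 0 := fun a => by
    obtain ⟨x, hx⟩ := QuotientGroup.mk_surjective (Additive.toMul a)
    show Additive.ofMul ((Additive.toMul a) ^ p) = 0
    rw [← hx, ← QuotientGroup.mk_pow,
      (QuotientGroup.eq_one_iff _).2 (CfsgLib.PGroups.pow_mem_frattini hPp x)]
    rfl
  obtain ⟨d, co, N, hco, hN, hcoN, hspan⟩ := exists_coordinates hexpA
  let q : P → Additive (P ⧸ Φ) := fun x => Additive.ofMul (x : P ⧸ Φ)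
  let r : P → (Fin d → AlgebraicClosure (ZMod p)) := fun x => co (q x)
  have hq : ∀ x y, q (x * y) = q x + q y := fun x y => rfl
  have hr : ∀ x y, r (x * y) = r x + r y := fun x y => map_add co (q x) (q y)
  have hr0 : ∀ x, r x = 0 ↔ x ∈ Φ := fun x => by
    rw [show r x = co (q x) from rfl, map_eq_zero_iff co hco]
    exact QuotientGroup.eq_one_iff x
  -- the action
  have hΦi : ∀ (g : G), Φ ≤ Φ.comap (MulAut.conjNormal g : MulAut P).toMonoidHom := fun g x hx =>
    (Subgroup.characteristic_iff_map_le.1 (inferInstance : Φ.Characteristic) (MulAut.conjNormal g))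
      ⟨x, hx, rfl⟩
  let act : G → AddMonoid.End (Additive (P ⧸ Φ)) := fun g =>
    MonoidHom.toAdditive (QuotientGroup.map Φ Φ (MulAut.conjNormal g : MulAut P).toMonoidHom
      (hΦi g))
  have hact : ∀ g x, act g (q x) = q ((MulAut.conjNormal g : MulAut P) x) := fun g x => rfl
  have hqs : Function.Surjective q := fun a => by
    obtain ⟨x, hx⟩ := QuotientGroup.mk_surjective (Additive.toMul a)
    exact ⟨x, congrArg Additive.ofMul hx⟩
  let ψ : G →* AddMonoid.End (Additive (P ⧸ Φ)) :=
    { toFun := act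
      map_one' := AddMonoidHom.ext fun a => by
        obtain ⟨x, rfl⟩ := hqs a
        refine (hact 1 x).trans ?_
        rw [map_one]; rfl
      map_mul' := fun g h => AddMonoidHom.ext fun a => by
        obtain ⟨x, rfl⟩ := hqs a
        refine (hact (g * h) x).trans ?_
        rw [map_mul]
        show _ = act g (act h (q x))
        rw [hact, hact]; rfl }
  have hPker : P ≤ (N.comp ψ).ker := by
    intro a ha
    rw [MonoidHom.mem_ker, MonoidHom.comp_apply]
    have h1 : ψ a = 1 := AddMonoidHom.ext fun v => by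
      obtain ⟨x, rfl⟩ := hqs v
      show act a (q x) = q x
      rw [hact]
      have e : (MulAut.conjNormal a : MulAut P) x = (⟨a, ha⟩ : P) * x * (⟨a, ha⟩ : P)⁻¹ :=
        Subtype.ext (MulAut.conjNormal_apply a x)
      rw [e, hq, hq]
      show q ⟨a, ha⟩ + q x + - q ⟨a, ha⟩ = q x
      abel
    rw [h1, map_one]
  let ρ := QuotientGroup.lift P (N.comp ψ) hPker
  refine ⟨d, r, ρ, ?_, hr, hr0, ?_, ?_⟩
  · -- faithfulness
    rw [← MonoidHom.ker_eq_bot_iff, eq_bot_iff]
    intro u hu
    obtain ⟨g, rfl⟩ := QuotientGroup.mk'_surjective P u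
    refine Subgroup.mem_bot.2 ((QuotientGroup.eq_one_iff g).2 ?_)
    suffices hle : ψ.ker ≤ P from hle (MonoidHom.mem_ker.2 (hN ((MonoidHom.mem_ker.1 hu).trans (map_one N).symm)))
    refine le_pCore (N := ψ.ker) ?_
    intro g
    obtain ⟨b', c, hbc, ⟨k, hbk⟩, hc⟩ :=
      CfsgLib.NormalPComplement.exists_pParts (p := p) (isOfFinOrder_of_finite (g : G))
    refine ⟨k, ?_⟩
    have hgc : (g : G) ^ c ∈ Subgroup.centralizer (P : Set G) := by
      refine CfsgLib.CoprimeAction.le_centralizer_of_frattini ?_ ?_ ?_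
        (Subgroup.mem_zpowers ((g : G) ^ c))
      · rw [Subgroup.normalizer_eq_top_iff.2 (inferInstance : P.Normal)]; exact le_top
      · obtain ⟨m, hm⟩ := IsPGroup.iff_card.1 (hPp.to_subgroup Φ)
        rw [Nat.card_zpowers, hm]; exact hc.pow_right m
      · intro z hz x hx
        have hzk : z ∈ ψ.ker := by
          obtain ⟨i, rfl⟩ := Subgroup.mem_zpowers_iff.1 hz
          exact Subgroup.zpow_mem _ (Subgroup.pow_mem _ g.2 c) i
        have h3 : act z (q ⟨x, hx⟩) = q ⟨x, hx⟩ := DFunLike.congr_fun (MonoidHom.mem_ker.1 hzk) (q ⟨x, hx⟩)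
        rw [hact] at h3
        have h4 : (((MulAut.conjNormal z : MulAut P) ⟨x, hx⟩ : P) : P ⧸ Φ) = ((⟨x, hx⟩ : P) : P ⧸ Φ) := h3
        refine ⟨(⟨x, hx⟩ : P)⁻¹ * (MulAut.conjNormal z : MulAut P) ⟨x, hx⟩, QuotientGroup.eq.1 h4.symm, ?_⟩
        show x⁻¹ * (((MulAut.conjNormal z : MulAut P) ⟨x, hx⟩ : P) : G) = _
        rw [MulAut.conjNormal_apply]
    have hgP : (g : G) ^ c ∈ P := centralizer_pCore_le hG hO hgc
    have hc1 : (g : G) ^ c = 1 := by
      obtain ⟨j, hj⟩ := IsPGroup.iff_orderOf.1 hPp ⟨_, hgP⟩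
      rw [Subgroup.orderOf_mk] at hj
      exact orderOf_eq_one_iff.1 (Nat.eq_one_of_dvd_coprimes (hc.pow_right j) dvd_rfl (hj ▸ dvd_rfl))
    refine Subtype.ext ?_
    show (g : G) ^ p ^ k = 1
    conv_lhs => rw [← hbc, hc1, mul_one]
    exact orderOf_dvd_iff_pow_eq_one.1 hbk
  · intro g x
    show r _ = N (ψ g) (co (q x))
    rw [← hcoN]
    show co (q _) = co (act g (q x))
    rw [hact]
    exact congrArg (fun y => co (q y)) (Subtype.ext (MulAut.conjNormal_apply g x).symm)
  · rw [← hspan]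
    exact congrArg _ (hqs.range_comp co)

/-- A relation from the exponent: if `(x g) ^ m = 1` for all `x` in `O_p(G)`, then the sum of the
first `m` powers of the operator of `g` vanishes. -/
theorem sum_pow_eq_zero {G : Type w} [Group G] {K : Type*} [Field K] {V : Type*} [AddCommGroup V]
    [Module K V] {P : Subgroup G} [P.Normal] (r : P → V) (hr : ∀ a b, r (a * b) = r a + r b)
    (ρ : G ⧸ P →* Module.End K V)
    (hρ : ∀ (g : G) (x : P), r ⟨g * x * g⁻¹, (inferInstance : P.Normal).conj_mem _ x.2 g⟩ = ρ g (r x))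
    (hspan : Submodule.span K (Set.range r) = ⊤) {g : G} {m : ℕ}
    (h : ∀ x : P, ((x : G) * g) ^ m = 1) :
    ∑ i ∈ Finset.range m, ρ g ^ i = 0 := by
  refine LinearMap.ext_on hspan ?_
  rintro _ ⟨x, rfl⟩
  have hg : g ^ m = 1 := by simpa using h 1
  obtain ⟨w, hw, hrw⟩ := CfsgLib.MetacyclicP.exists_pow_eq (P := P) r hr
    (fun a => (ρ a).toAddMonoidHom) hρ g x m
  rw [h x, hg, mul_one] at hw
  have hw1 : w = 1 := Subtype.ext hw.symm
  have hr1 : r 1 = 0 := by
    have h1 := hr 1 1
    rw [mul_one, left_eq_add] at h1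
    exact h1
  rw [hw1, hr1] at hrw
  rw [LinearMap.sum_apply, LinearMap.zero_apply, hrw]
  refine Finset.sum_congr rfl fun i _ => ?_
  rw [Module.End.pow_apply]
  rfl

theorem exists_fermat_of_pow_sub_one {p : ℕ} (hp : p.Prime) (_hp2 : p ≠ 2) {j m : ℕ}
    (h : p ^ j - 1 = 2 ^ m) : ∃ k : ℕ, p = 2 ^ k + 1 := by
  have hd : p - 1 ∣ p ^ j - 1 := by simpa using Nat.sub_dvd_pow_sub_pow p 1 j
  rw [h] at hd
  obtain ⟨k, -, hk⟩ := (Nat.dvd_prime_pow Nat.prime_two).1 hd
  exact ⟨k, by have := hp.two_le; omega⟩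

theorem eq_two_of_pow_sub_one {p q : ℕ} (hp : p.Prime) (hp2 : p ≠ 2) (hq : q.Prime) {j m : ℕ}
    (_hm : 1 ≤ m) (h : p ^ j - 1 = q ^ m) : q = 2 := by
  have hodd : Odd (p ^ j) := (hp.odd_of_ne_two hp2).pow
  obtain ⟨t, ht⟩ := hodd
  have hdvd : 2 ∣ q ^ m := ⟨t, by omega⟩
  exact ((Nat.prime_dvd_prime_iff_eq Nat.prime_two hq).1 (Nat.prime_two.dvd_of_dvd_pow hdvd)).symm

/-- An element of `G / O_p(G)` keeping the full exponent forces a Fermat prime and a nonabelian
`2`-subgroup. -/
theorem exception_of_pow_ne_one {G : Type w} [Group G] [Finite G] (hp2 : p ≠ 2)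
    (hG : IsPSolvable p G) (hO : pPrimeCore p G = ⊥) {n : ℕ}
    (hexp : ∀ g : G, (∃ k, g ^ p ^ k = 1) → g ^ p ^ (n + 1) = 1) {u : G ⧸ pCore p G}
    (hu : ∃ k, u ^ p ^ k = 1) (hne : u ^ p ^ n ≠ 1) :
    (∃ k : ℕ, p = 2 ^ k + 1) ∧
      ∃ Q : Subgroup (G ⧸ pCore p G), IsPGroup 2 Q ∧ ¬ IsMulCommutative Q := by
  classical
  obtain ⟨g, hg⟩ := QuotientGroup.mk'_surjective (pCore p G) u
  subst hg
  obtain ⟨k, hk⟩ := hu
  set P := pCore p G with hP
  have hPp : IsPGroup p P := isPGroup_pCore p G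
  rw [← map_pow, QuotientGroup.mk'_apply, QuotientGroup.eq_one_iff] at hk
  obtain ⟨k', hk'⟩ := hPp ⟨_, hk⟩
  have hgp : ∀ x : P, ∃ l, ((x : G) * g) ^ p ^ l = 1 := by
    intro x
    have h1 : ((x : G) * g) ^ p ^ k ∈ P := by
      rw [← QuotientGroup.eq_one_iff, QuotientGroup.mk_pow, QuotientGroup.mk_mul,
        (QuotientGroup.eq_one_iff (x : G)).2 x.2, one_mul, ← QuotientGroup.mk_pow,
        QuotientGroup.eq_one_iff]
      exact hk
    obtain ⟨l, hl⟩ := hPp ⟨_, h1⟩
    refine ⟨k + l, ?_⟩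
    rw [pow_add, pow_mul]
    exact congrArg Subtype.val hl
  obtain ⟨d, r, ρ, hρ, hr, -, hrρ, hspan⟩ := exists_frattini_rep hG hO
  have hsum := sum_pow_eq_zero r hr ρ hrρ hspan (g := g) (m := p ^ (n + 1))
    (fun x => hexp _ (hgp x))
  have hord : orderOf (g : G ⧸ P) = p ^ (n + 1) := by
    refine orderOf_eq_prime_pow hne ?_
    have h1 := hexp g ⟨k + k', by rw [pow_add, pow_mul]; exact congrArg Subtype.val hk'⟩
    rw [← QuotientGroup.mk_pow, h1]
    rfl
  obtain ⟨q, j, m, hq, -, -, hm, hjm, -, Q, hQ, hQn⟩ := exists_exception (p := p)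
    (isPSolvable_quotient hG P) (pCore_quotient_pCore p G) hρ (n := n + 1) (by omega) hord
    (s := p ^ (n + 1) - 1) (Nat.sub_lt (pow_pos hp.out.pos _) one_pos) (c := fun _ => 1) one_ne_zero
    (by
      rw [Nat.sub_add_cancel (Nat.one_le_pow _ _ hp.out.pos)]
      simpa using hsum)
  obtain rfl := eq_two_of_pow_sub_one hp.out hp2 hq hm hjm
  exact ⟨exists_fermat_of_pow_sub_one hp.out hp2 hjm, Q, hQ, hQn⟩

end CfsgLib.HallHigmanExc
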